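import Cfsg.Agent.Spor.Chk

set_option autoImplicit false
set_option maxRecDepth 100000000
set_option Elab.async false
noncomputable section

namespace Cfsg.Agent.Spor.An9

def m0_0 : Nat := nat_lit 0x4
def m0_1 : Nat := nat_lit 0x2
def n0 : Net := Net.cons 1 m0_0 (Net.cons 2 m0_1 (Net.nil))

def m1_0 : Nat := nat_lit 0x1
def m1_1 : Nat := nat_lit 0x1
def m1_2 : Nat := nat_lit 0x1
def m1_3 : Nat := nat_lit 0x1
def n1 : Net := Net.cons 4 m1_0 (Net.cons 2 m1_1 (Net.cons 1 m1_2 (Net.cons 4 m1_3 (Net.nil))))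

def m2_0 : Nat := nat_lit 0x2
def m2_1 : Nat := nat_lit 0x1
def m2_2 : Nat := nat_lit 0x1
def m2_3 : Nat := nat_lit 0x1
def n2 : Net := Net.cons 4 m2_0 (Net.cons 2 m2_1 (Net.cons 1 m2_2 (Net.cons 2 m2_3 (Net.nil))))

def m3_0 : Nat := nat_lit 0x1
def m3_1 : Nat := nat_lit 0x1
def m3_2 : Nat := nat_lit 0x1
def m3_3 : Nat := nat_lit 0x4
def n3 : Net := Net.cons 2 m3_0 (Net.cons 1 m3_1 (Net.cons 2 m3_2 (Net.cons 4 m3_3 (Net.nil))))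

def m4_0 : Nat := nat_lit 0x8
def m4_1 : Nat := nat_lit 0x4
def m4_2 : Nat := nat_lit 0x2
def m4_3 : Nat := nat_lit 0x8
def n4 : Net := Net.cons 4 m4_0 (Net.cons 1 m4_1 (Net.cons 2 m4_2 (Net.cons 4 m4_3 (Net.nil))))

def m5_0 : Nat := nat_lit 0x1
def m5_1 : Nat := nat_lit 0x1
def m5_2 : Nat := nat_lit 0x1
def m5_3 : Nat := nat_lit 0x1
def n5 : Net := Net.cons 8 m5_0 (Net.cons 2 m5_1 (Net.cons 1 m5_2 (Net.cons 8 m5_3 (Net.nil))))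

def m6_0 : Nat := nat_lit 0x1
def m6_1 : Nat := nat_lit 0x1
def n6 : Net := Net.cons 2 m6_0 (Net.cons 1 m6_1 (Net.nil))

def ip1 : List Nat := [0x158, 0x194, 0x1e0, 0x2]
def l1 : Let := ⟨0, false, 0x1ff, 0x0, [0xc, 0x6, 0x1f0]⟩

def ip2 : List Nat := [0x158, 0x18c, 0x1e0, 0x2]
def l2 : Let := ⟨1, false, 0x1ff, 0x0, [0x14, 0x6, 0x1e8]⟩

def ip3 : List Nat := [0x168, 0x18c, 0x1d0, 0x2]
def l3 : Let := ⟨2, false, 0x1ff, 0x0, [0x24, 0x6, 0x1d8]⟩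

def ip4 : List Nat := [0x168, 0x18c, 0x1b0, 0x2]
def l4 : Let := ⟨3, false, 0x1ff, 0x0, [0x44, 0x6, 0x1b8]⟩

def ip5 : List Nat := [0x1a8, 0x14c, 0x170, 0x2]
def l5 : Let := ⟨4, false, 0x1ff, 0x0, [0x84, 0x6, 0x178]⟩

def ip6 : List Nat := [0x1a8, 0xcc, 0xf0, 0x2]
def l6 : Let := ⟨5, false, 0x1ff, 0x0, [0x104, 0x6, 0xf8]⟩

def ip7 : List Nat := [0xac, 0xca, 0xf0, 0x100]
def l7 : Let := ⟨6, false, 0x1ff, 0x2, [0x4, 0x2, 0x1f8]⟩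

def ip8 : List Nat := [0x151, 0x198, 0x1e0, 0x4]
def l8 : Let := ⟨0, true, 0x1ff, 0x8, [0x9, 0xc, 0x1f0]⟩

def ip9 : List Nat := [0x149, 0x198, 0x1e0, 0x4]
def l9 : Let := ⟨1, true, 0x1ff, 0x10, [0x11, 0x14, 0x1e8]⟩

def ip10 : List Nat := [0x149, 0x1a8, 0x1d0, 0x4]
def l10 : Let := ⟨2, true, 0x1ff, 0x20, [0x21, 0x24, 0x1d8]⟩

def ip11 : List Nat := [0x129, 0x1c8, 0x1b0, 0x4]
def l11 : Let := ⟨3, true, 0x1ff, 0x40, [0x41, 0x44, 0x1b8]⟩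

def ip12 : List Nat := [0x129, 0x1c8, 0x170, 0x4]
def l12 : Let := ⟨4, true, 0x1ff, 0x80, [0x81, 0x84, 0x178]⟩

def ip13 : List Nat := [0xa9, 0x1c8, 0xf0, 0x4]
def l13 : Let := ⟨5, true, 0x1ff, 0x100, [0x101, 0x104, 0xf8]⟩

def ip14 : List Nat := [0xaa, 0xcc, 0xf0, 0x100]
def l14 : Let := ⟨6, true, 0x1ff, 0x4, [0x2, 0x4, 0x1f8]⟩

def NT : List Net := [n0, n1, n2, n3, n4, n5, n6]
def LT : List Let := [⟨0, false, 0, 0, []⟩, l1, l2, l3, l4, l5, l6, l7, l8, l9, l10, l11, l12, l13, l14]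
def T : Tab := ⟨NT, LT⟩
def EX : List (List Nat) := [[], [0], [2], [4], [6], [8], [10], [12], [1], [3], [5], [7], [9], [11], [13]]
def RL : List (List Nat) := [[0, 0, 0], [2, 2, 2], [4, 4, 4], [6, 6, 6], [8, 8, 8], [10, 10, 10], [12, 12, 12], [0, 2, 0, 2], [0, 4, 0, 4], [0, 6, 0, 6], [0, 8, 0, 8], [0, 10, 0, 10], [0, 12, 0, 12], [2, 4, 2, 4], [2, 6, 2, 6], [2, 8, 2, 8], [2, 10, 2, 10], [2, 12, 2, 12], [4, 6, 4, 6], [4, 8, 4, 8], [4, 10, 4, 10], [4, 12, 4, 12], [6, 8, 6, 8], [6, 10, 6, 10], [6, 12, 6, 12], [8, 10, 8, 10], [8, 12, 8, 12], [10, 12, 10, 12]]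
def XL : List (List Nat) := []
def BW : List (List Nat) := [[0], [2], [4], [6], [8], [10]]
def IV : Nat := 0x70605040302010e0d0c0b0a090800
def L : List Nat := [1, 2, 3, 4, 5, 6, 7, 8, 9, 10, 11, 12, 13, 14]
def gs : List Nat := [1, 2, 3, 4, 5, 6, 7]
def base : List Nat := [1, 2, 3, 4, 5, 6]

end Cfsg.Agent.Spor.An9
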